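import Groth.Agent.PicH1Lib.FlatIdeal
import Groth.Agent.PicH1Lib.Adic

/-!
# Base change of finitely generated ideals
-/

set_option autoImplicit false
set_option linter.style.haveILetI false
universe u

open CategoryTheory CategoryTheory.Limits AlgebraicGeometry TopologicalSpace Opposite
open KFlatLib (pb puSec)
open PicH1Lib

noncomputable section

namespace DualUnitsLib

variable {S T : Scheme.{u}} (f : T ⟶ S) [Flat f] (K : S.IdealSheafData)

omit [Flat f] in
/-- Finitely generated ideals on affine schemes give coherent modules. -/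
theorem isCoh_idealMod_of_fg [IsAffine S] (hK : (K.ideal ⟨⊤, isAffineOpen_top S⟩).FG) :
    Coh.IsCoh (ClSub.idealMod K) := by
  haveI : Coh.IsQCoh (ClSub.idealMod K) := SweepSix.ConormalSpec.isQCoh_idealMod K
  refine ⟨‹_›, QCohLib.isFT_of_finite fun p => ⟨⊤, isAffineOpen_top S, trivial, ?_⟩⟩
  refine ⟨Submodule.fg_of_fg_map_injective (QCohLib.appLin (ClSub.idealModι K) ⊤)
    (idVal_injective K ⊤) ?_⟩
  rw [Submodule.map_top]
  suffices e : LinearMap.range (QCohLib.appLin (ClSub.idealModι K) ⊤) = K.ideal ⟨⊤, isAffineOpen_top S⟩ by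
    rw [e]
    exact hK
  ext b
  rw [← congrArg (fun I : S.IdealSheafData => I.ideal ⟨⊤, isAffineOpen_top S⟩) K.ker_subschemeι, Scheme.Hom.ker_apply]
  refine ⟨?_, fun h => exists_idVal K (RingHom.mem_ker.1 h)⟩
  rintro ⟨s, rfl⟩
  exact RingHom.mem_ker.2 (app_idVal K s)

/-- The kernel of `Spec` of a map with finitely generated kernel. -/
theorem fg_ker_specMap {R B : Type u} [CommRing R] [CommRing B] (φ : R →+* B) (h : (RingHom.ker φ).FG) :
    ((Spec.map (CommRingCat.ofHom φ)).ker.ideal ⟨⊤, isAffineOpen_top _⟩).FG := by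
  rw [FComplLib.ker_specMap, BlowUpLib.specIdeal_top]
  exact h.map _

/-- The cohomology of the ideal of a base change, when the ideal lives over a closed point. -/
theorem subsingleton_HH_idealMod_comap_of_isCoh {k : Type u} [Field k] [IsAffine S] (hMc : Coh.IsCoh (ClSub.idealMod K))
    (g₀ : Spec (CommRingCat.of k) ⟶ S) [IsClosedImmersion g₀] (hK : g₀.ker * K = ⊥)
    {X₀ : Scheme.{u}} {π : X₀ ⟶ T} {f₀ : X₀ ⟶ Spec (CommRingCat.of k)} (H : IsPullback π f₀ f g₀)
    (p : ℕ) (h : Subsingleton (Coh.HH X₀ (Coh.structureModule X₀) p)) :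
    Subsingleton (Coh.HH T (ClSub.idealMod (K.comap f)) p) := by
  haveI : IsClosedImmersion π := MorphismProperty.of_isPullback H.flip ‹IsClosedImmersion g₀›
  let M := ClSub.idealMod K
  let N := (Scheme.Modules.pullback g₀).obj M
  haveI := DevissLib.isIso_unit_of_killed g₀ (killedByIdeal_idealMod K hK)
  haveI hMq : Coh.IsQCoh M := SweepSix.ConormalSpec.isQCoh_idealMod K
  have hN : Coh.IsCoh N := ConsLib.isCoh_pullback g₀ hMc
  haveI := hN.1
  obtain ⟨r, ⟨eN⟩⟩ := CohCmpLib.exists_freeMod_iso_of_field k N hN.2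
  haveI : HasInjectiveResolutions (Spec (CommRingCat.of k)).Modules := inferInstance
  haveI : HasInjectiveResolutions X₀.Modules := inferInstance
  haveI : PreservesFiniteLimits (Scheme.Modules.pushforward g₀) := CohCmpLib.preservesFiniteLimits_push
  haveI : PreservesFiniteLimits (Scheme.Modules.pushforward π) := CohCmpLib.preservesFiniteLimits_push
  obtain ⟨eb⟩ := Groth.Agent.S0033.result g₀ f f₀ π H.flip N 0
  let φ : pb f M ≅ (Coh.push π).obj (FlatMod.freeMod X₀ r) :=
    (Scheme.Modules.pullback f).mapIso (asIso ((Scheme.Modules.pullbackPushforwardAdjunction g₀).unit.app M) ≪≫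
      ((Scheme.Modules.pushforward g₀).rightDerivedZeroIsoSelf.app N).symm) ≪≫ eb ≪≫
    (Scheme.Modules.pushforward π).rightDerivedZeroIsoSelf.app _ ≪≫
    (Coh.push π).mapIso ((Scheme.Modules.pullback f₀).mapIso eN ≪≫ KFlatLib.pullFreeIso f₀ r)
  haveI := isIso_toComap f K
  have hfree := subsingleton_HH_free p h r
  haveI : Coh.IsQCoh (FlatMod.freeMod X₀ r) := CurvLib.isQCoh_freeMod X₀ r
  refine SerreVanLib.subsingleton_HH_of_iso ((asIso (toComap f K)).symm ≪≫ φ) p ?_
  exact (Groth.Agent.S0012.result π (FlatMod.freeMod X₀ r) p).some.symm.injective.subsingleton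

end DualUnitsLib
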