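import Groth.Agent.CohTopLib.Basic
import Groth.Prelude.Def_UnitsSh
import Groth.Prelude.Def_Coh

/-!
# Units of a split square-zero thickening with free kernel
-/

set_option autoImplicit false
set_option linter.style.haveILetI false
set_option backward.isDefEq.respectTransparency false
set_option backward.isDefEq.respectTransparency.types false
set_option synthInstance.maxHeartbeats 400000
set_option maxHeartbeats 1000000

universe u

open CategoryTheory CategoryTheory.Limits AlgebraicGeometry TopologicalSpace Opposite CategoryTheory.Abelian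
open QCohLib (AbSh pf pre)

noncomputable section

namespace DualUnitsLib

/-- A thickening `X ⊆ Y` split by `r` whose ideal is free on `ε`. -/
structure Dual (X Y : Scheme.{u}) where
  /-- the closed subscheme -/
  i : X ⟶ Y
  /-- the retraction -/
  r : Y ⟶ X
  /-- the parameter -/
  ε : Γ(Y, ⊤)
  i_r : i ≫ r = 𝟙 X
  isClosedImmersion : IsClosedImmersion i
  le_pre : ∀ V : Y.Opens, V ≤ r ⁻¹ᵁ (i ⁻¹ᵁ V)
  app_ε : i.appTop ε = 0
  ε_mul : ε * ε = 0
  decomp : ∀ U : X.Opens, IsAffineOpen U → ∀ z : Γ(Y, r ⁻¹ᵁ U), ∃! ab : Γ(X, U) × Γ(X, U),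
    z = r.app U ab.1 + Y.presheaf.map (homOfLE (le_top : r ⁻¹ᵁ U ≤ ⊤)).op ε * r.app U ab.2

variable {X Y : Scheme.{u}} (D : Dual X Y)

/-- Functions on the subscheme, lifted by the retraction. -/
def Dual.lift (V : Y.Opens) : Γ(X, D.i ⁻¹ᵁ V) →+* Γ(Y, V) := (D.r.appLE (D.i ⁻¹ᵁ V) V (D.le_pre V)).hom

/-- The parameter over an open. -/
def Dual.eps (V : Y.Opens) : Γ(Y, V) := Y.presheaf.map (homOfLE (le_top : V ≤ ⊤)).op D.ε

theorem Dual.eps_mul (V : Y.Opens) : D.eps V * D.eps V = 0 := by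
  rw [Dual.eps, ← map_mul, D.ε_mul, map_zero]

theorem Dual.eps_res {W V : Y.Opens} (h : W ≤ V) : Y.presheaf.map (homOfLE h).op (D.eps V) = D.eps W := by
  rw [Dual.eps, Dual.eps, ← ConcreteCategory.comp_apply, ← Functor.map_comp]
  rfl

theorem Dual.lift_res {W V : Y.Opens} (h : W ≤ V) (b : Γ(X, D.i ⁻¹ᵁ V)) :
    Y.presheaf.map (homOfLE h).op (D.lift V b) =
      D.lift W (X.presheaf.map (homOfLE (D.i.preimage_mono h)).op b) := by
  show ((D.r.appLE (D.i ⁻¹ᵁ V) V (D.le_pre V)) ≫ Y.presheaf.map (homOfLE h).op).hom b =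
    (X.presheaf.map (homOfLE (D.i.preimage_mono h)).op ≫ D.r.appLE (D.i ⁻¹ᵁ W) W (D.le_pre W)).hom b
  rw [Scheme.Hom.appLE_map, Scheme.Hom.map_appLE]

theorem Dual.i_lift (V : Y.Opens) (b : Γ(X, D.i ⁻¹ᵁ V)) : D.i.app V (D.lift V b) = b := by
  show (D.r.appLE (D.i ⁻¹ᵁ V) V (D.le_pre V) ≫ D.i.app V).hom b = b
  rw [Scheme.Hom.app_eq_appLE, Scheme.Hom.appLE_comp_appLE]
  have key' : ∀ (g : X ⟶ X) (h : D.i ⁻¹ᵁ V ≤ g ⁻¹ᵁ (D.i ⁻¹ᵁ V)), g = 𝟙 X → (g.appLE _ _ h).hom b = b := by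
    rintro g h rfl
    rw [Scheme.Hom.appLE, Scheme.Hom.id_app]
    exact congr($(X.presheaf.map_id _) b)
  exact key' _ _ D.i_r

theorem Dual.i_eps (V : Y.Opens) : D.i.app V (D.eps V) = 0 := by
  show (Y.presheaf.map (homOfLE (le_top : V ≤ ⊤)).op ≫ D.i.app V).hom D.ε = 0
  rw [D.i.naturality]
  show X.presheaf.map _ (D.i.appTop D.ε) = 0
  rw [D.app_ε, map_zero]

theorem Dual.base_r (y : Y) : D.i.base (D.r.base y) = y := by
  haveI := D.isClosedImmersion
  by_contra hne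
  have h : IsClosed (Set.range D.i.base) := D.i.isClosedEmbedding.isClosed_range
  by_cases hy : y ∈ Set.range D.i.base
  · obtain ⟨x, rfl⟩ := hy
    exact hne (congrArg D.i.base (congrArg (fun g : X ⟶ X => g.base x) D.i_r))
  · exact (D.le_pre ⟨(Set.range D.i.base)ᶜ, h.isOpen_compl⟩ hy) ⟨_, rfl⟩

theorem Dual.exists_affine_pre {V : Y.Opens} {y : Y} (hy : y ∈ V) :
    ∃ U : X.Opens, IsAffineOpen U ∧ y ∈ D.r ⁻¹ᵁ U ∧ D.r ⁻¹ᵁ U ≤ V := by
  have hx : D.r.base y ∈ D.i ⁻¹ᵁ V := by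
    show D.i.base (D.r.base y) ∈ V
    rw [D.base_r]; exact hy
  obtain ⟨U, hU, hxU, hUV⟩ := exists_isAffineOpen_mem_and_subset hx
  refine ⟨U, hU, hxU, fun z hz => ?_⟩
  have := hUV hz
  rw [← D.base_r z]
  exact this

theorem Dual.pre_pre (U : X.Opens) : D.i ⁻¹ᵁ (D.r ⁻¹ᵁ U) = U := by
  rw [← Scheme.Hom.comp_preimage, D.i_r, Scheme.Hom.id_preimage]

theorem Dual.lift_app (U : X.Opens) (b : Γ(X, D.i ⁻¹ᵁ (D.r ⁻¹ᵁ U))) :
    D.lift (D.r ⁻¹ᵁ U) b = D.r.app U (X.presheaf.map (homOfLE (D.pre_pre U).ge).op b) := by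
  show (D.r.appLE (D.i ⁻¹ᵁ (D.r ⁻¹ᵁ U)) (D.r ⁻¹ᵁ U) (D.le_pre _)).hom b =
    (X.presheaf.map (homOfLE (D.pre_pre U).ge).op ≫ D.r.app U).hom b
  rw [Scheme.Hom.app_eq_appLE, Scheme.Hom.map_appLE]

theorem Dual.kernel_affine {U : X.Opens} (hU : IsAffineOpen U) {z : Γ(Y, D.r ⁻¹ᵁ U)} (hz : D.i.app _ z = 0) :
    ∃! b, z = D.eps _ * D.lift (D.r ⁻¹ᵁ U) b := by
  obtain ⟨⟨a, c⟩, hac, huniq⟩ := D.decomp U hU z
  let e := X.presheaf.map (homOfLE (D.pre_pre U).le).op
  have hre : ∀ c, D.r.app U c = D.lift (D.r ⁻¹ᵁ U) (e c) := fun c => by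
    rw [D.lift_app]
    refine congrArg (D.r.app U).hom ?_
    show c = (e ≫ X.presheaf.map (homOfLE (D.pre_pre U).ge).op).hom c
    rw [← Functor.map_comp]
    exact (congr($(X.presheaf.map_id _) c)).symm
  have ha : a = 0 := by
    have h1 := hz
    rw [hac, map_add, map_mul, hre, D.i_lift] at h1
    rw [show D.i.app _ (Y.presheaf.map (homOfLE (le_top : D.r ⁻¹ᵁ U ≤ ⊤)).op D.ε) = 0 from D.i_eps _,
      zero_mul, add_zero] at h1
    have h2 := congrArg (X.presheaf.map (homOfLE (D.pre_pre U).ge).op).hom h1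
    rw [map_zero] at h2
    refine Eq.trans ?_ h2
    show a = (e ≫ X.presheaf.map (homOfLE (D.pre_pre U).ge).op).hom a
    rw [← Functor.map_comp]
    exact (congr($(X.presheaf.map_id _) a)).symm
  subst ha
  refine ⟨e c, ?_, fun b hb => ?_⟩
  · show z = _
    rw [hac, map_zero, zero_add, ← hre]
    rfl
  · have h := huniq (0, X.presheaf.map (homOfLE (D.pre_pre U).ge).op b) (by
      show z = _
      rw [map_zero, zero_add, ← D.lift_app]
      exact hb)
    rw [← show X.presheaf.map (homOfLE (D.pre_pre U).ge).op b = c from congrArg Prod.snd h]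
    show b = (X.presheaf.map (homOfLE (D.pre_pre U).ge).op ≫ e).hom b
    rw [← Functor.map_comp]
    exact (congr($(X.presheaf.map_id _) b)).symm

theorem Dual.eps_lift_injective (V : Y.Opens) : Function.Injective fun b => D.eps V * D.lift V b := by
  intro b b' h
  refine TopCat.Presheaf.section_ext X.sheaf _ _ _ fun x hx => ?_
  obtain ⟨U, hU, hxU, hUV⟩ := D.exists_affine_pre (V := V) (y := D.i.base x) hx
  have h' := congrArg (Y.presheaf.map (homOfLE hUV).op).hom h
  simp only [map_mul] at h'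
  rw [D.eps_res, D.lift_res, D.lift_res] at h'
  obtain ⟨_, -, huniq⟩ := D.kernel_affine hU (z := D.eps _ * D.lift _ (X.presheaf.map
    (homOfLE (D.i.preimage_mono hUV)).op b)) (by rw [map_mul, D.i_eps, zero_mul])
  have h2 := (huniq _ rfl).trans (huniq _ h').symm
  have h3 := congrArg (X.presheaf.germ (D.i ⁻¹ᵁ (D.r ⁻¹ᵁ U)) x hxU) h2
  rw [TopCat.Presheaf.germ_res_apply, TopCat.Presheaf.germ_res_apply] at h3
  exact h3

theorem Dual.exists_eps_lift {V : Y.Opens} {z : Γ(Y, V)} (hz : D.i.app V z = 0) :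
    ∃ b, z = D.eps V * D.lift V b := by
  choose U hU hyU hUV using fun y : (V : Set Y) => D.exists_affine_pre (V := V) y.2
  have hz' : ∀ y, D.i.app (D.r ⁻¹ᵁ U y) (Y.presheaf.map (homOfLE (hUV y)).op z) = 0 := fun y => by
    show (Y.presheaf.map (homOfLE (hUV y)).op ≫ D.i.app _).hom z = 0
    rw [D.i.naturality]
    show X.presheaf.map _ (D.i.app V z) = 0
    rw [hz, map_zero]
  choose b hb hub using fun y => D.kernel_affine (hU y) (hz' y)
  obtain ⟨s, hs, -⟩ := X.sheaf.existsUnique_gluing' (fun y => D.i ⁻¹ᵁ (D.r ⁻¹ᵁ U y)) (D.i ⁻¹ᵁ V)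
    (fun y => homOfLE (D.i.preimage_mono (hUV y))) (fun x hx => Opens.mem_iSup.2 ⟨⟨D.i.base x, hx⟩, hyU ⟨D.i.base x, hx⟩⟩)
    b (fun y y' => by
      refine D.eps_lift_injective (D.r ⁻¹ᵁ U y ⊓ D.r ⁻¹ᵁ U y') ?_
      have e1 := congrArg (Y.presheaf.map (homOfLE (inf_le_left : D.r ⁻¹ᵁ U y ⊓ D.r ⁻¹ᵁ U y' ≤ _)).op).hom (hb y)
      have e2 := congrArg (Y.presheaf.map (homOfLE (inf_le_right : D.r ⁻¹ᵁ U y ⊓ D.r ⁻¹ᵁ U y' ≤ _)).op).hom (hb y')
      rw [map_mul, D.eps_res, D.lift_res] at e1 e2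
      refine e1.symm.trans (Eq.trans ?_ e2)
      rw [← ConcreteCategory.comp_apply, ← ConcreteCategory.comp_apply, ← Functor.map_comp, ← Functor.map_comp]
      rfl)
  refine ⟨s, TopCat.Sheaf.eq_of_locally_eq' Y.sheaf (fun y => D.r ⁻¹ᵁ U y) V (fun y => homOfLE (hUV y))
    (fun y hy => Opens.mem_iSup.2 ⟨⟨y, hy⟩, hyU ⟨y, hy⟩⟩) _ _ fun y => ?_⟩
  show Y.presheaf.map (homOfLE (hUV y)).op z = Y.presheaf.map (homOfLE (hUV y)).op (D.eps V * D.lift V s)
  rw [map_mul, D.eps_res, D.lift_res]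
  exact (hb y).trans (congrArg (fun t => D.eps _ * D.lift _ t) (hs y).symm)

/-- `1 + ε b`. -/
def Dual.one_add (V : Y.Opens) (b : Γ(X, D.i ⁻¹ᵁ V)) : (Γ(Y, V))ˣ where
  val := 1 + D.eps V * D.lift V b
  inv := 1 - D.eps V * D.lift V b
  val_inv := by linear_combination (-(D.lift V b * D.lift V b)) * D.eps_mul V
  inv_val := by linear_combination (-(D.lift V b * D.lift V b)) * D.eps_mul V

/-- The additive sheaf of functions of the subscheme, on the thickening. -/
abbrev Dual.K : AbSh Y.toTopCat := (pf D.i.base).obj (Coh.toAb (Coh.structureModule X))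

/-- `b ↦ 1 + ε b`. -/
def Dual.φ : D.K ⟶ UnitsSh.unitsAb Y :=
  ⟨{ app := fun V => AddCommGrpCat.ofHom (AddMonoidHom.mk'
        (fun b : Γ(X, D.i ⁻¹ᵁ V.unop) => UnitsSh.sectOfUnit (O := Y.sheaf.obj) (U := V) (D.one_add V.unop b))
        fun b b' : Γ(X, D.i ⁻¹ᵁ V.unop) => congrArg Additive.ofMul (Units.ext (by
          show 1 + D.eps V.unop * D.lift V.unop (b + b') =
            (1 + D.eps V.unop * D.lift V.unop b) * (1 + D.eps V.unop * D.lift V.unop b')
          rw [map_add]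
          linear_combination (-(D.lift V.unop b * D.lift V.unop b')) * D.eps_mul V.unop)))
     naturality := fun V W g => by
      refine ConcreteCategory.hom_ext _ _ fun b => ?_
      refine congrArg Additive.ofMul (Units.ext ?_)
      show (1 : Γ(Y, W.unop)) + D.eps W.unop * D.lift W.unop (X.presheaf.map (homOfLE (D.i.preimage_mono g.unop.le)).op b) =
        (Y.presheaf.map g (((1 : Γ(Y, V.unop)) + D.eps V.unop * D.lift V.unop b : Γ(Y, V.unop))) : Γ(Y, W.unop))
      rw [map_add, map_one, map_mul]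
      exact congrArg (1 + ·) (congrArg₂ (· * ·) (D.eps_res (leOfHom g.unop)).symm (D.lift_res (leOfHom g.unop) b).symm) }⟩

theorem Dual.φ_injective (V : Y.Opens) : Function.Injective (D.φ.hom.app (op V)) := fun b b' h => by
  have h1 := congrArg (fun v => (UnitsSh.unitOfSect (O := Y.sheaf.obj) (U := op V) v).1) h
  exact D.eps_lift_injective V (add_left_cancel (h1 : 1 + D.eps V * D.lift V b = 1 + D.eps V * D.lift V b'))

theorem Dual.φ_comap : D.φ ≫ UnitsSh.comap D.i = 0 := by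
  refine ObjectProperty.hom_ext _ (NatTrans.ext (funext fun V => ConcreteCategory.hom_ext _ _ fun b => ?_))
  refine congrArg Additive.ofMul (Units.ext ?_)
  show D.i.app V.unop (1 + D.eps V.unop * D.lift V.unop b) = 1
  rw [map_add, map_one, map_mul, D.i_eps, zero_mul, add_zero]

/-- The section given by the retraction. -/
def Dual.σ : (CohTop.push D.i.base).obj (UnitsSh.unitsAb X) ⟶ UnitsSh.unitsAb Y :=
  ⟨{ app := fun V => AddCommGrpCat.ofHom (AddMonoidHom.mk'
        (fun v => UnitsSh.sectOfUnit (O := Y.sheaf.obj) (U := V)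
          (Units.map (D.lift V.unop).toMonoidHom (UnitsSh.unitOfSect (O := X.sheaf.obj) (U := op (D.i ⁻¹ᵁ V.unop)) v)))
        fun v w => congrArg Additive.ofMul (map_mul (Units.map (D.lift V.unop).toMonoidHom)
          (UnitsSh.unitOfSect (O := X.sheaf.obj) (U := op (D.i ⁻¹ᵁ V.unop)) v)
          (UnitsSh.unitOfSect (O := X.sheaf.obj) (U := op (D.i ⁻¹ᵁ V.unop)) w)))
     naturality := fun V W g => by
      refine ConcreteCategory.hom_ext _ _ fun v => ?_
      refine congrArg Additive.ofMul (Units.ext ?_)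
      show D.lift W.unop (X.presheaf.map (homOfLE (D.i.preimage_mono g.unop.le)).op _) =
        Y.presheaf.map g (D.lift V.unop _)
      rw [show g = (homOfLE g.unop.le).op from Subsingleton.elim _ _, D.lift_res]
      rfl }⟩

theorem Dual.σ_comap : D.σ ≫ UnitsSh.comap D.i = 𝟙 _ := by
  refine ObjectProperty.hom_ext _ (NatTrans.ext (funext fun V => ConcreteCategory.hom_ext _ _ fun v => ?_))
  refine congrArg Additive.ofMul (Units.ext ?_)
  exact D.i_lift V.unop _

theorem Dual.exists_retraction : ∃ π : UnitsSh.unitsAb Y ⟶ D.K,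
    π ≫ D.φ + UnitsSh.comap D.i ≫ D.σ = 𝟙 _ ∧ D.φ ≫ π = 𝟙 _ := by
  let d : UnitsSh.unitsAb Y ⟶ UnitsSh.unitsAb Y := 𝟙 _ - UnitsSh.comap D.i ≫ D.σ
  have hd : d ≫ UnitsSh.comap D.i = 0 := by
    rw [Preadditive.sub_comp, Category.id_comp, Category.assoc, D.σ_comap, Category.comp_id, sub_self]
  have hl : ∀ (V : (Opens Y.toTopCat)ᵒᵖ) (w : (UnitsSh.unitsAb Y).obj.obj V),
      ∃ b, D.φ.hom.app V b = d.hom.app V w := fun V w => by
    have h0 := ConcreteCategory.congr_hom (congrArg (fun t => t.hom.app V) hd) w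
    let v : (Γ(Y, V.unop))ˣ := UnitsSh.unitOfSect (O := Y.sheaf.obj) (U := V) (d.hom.app V w)
    have h1 : D.i.app V.unop (v.1 : Γ(Y, V.unop)) = 1 :=
      congrArg (fun t => (UnitsSh.unitOfSect (O := X.sheaf.obj) (U := op (D.i ⁻¹ᵁ V.unop)) t).1) h0
    obtain ⟨b, hb⟩ := D.exists_eps_lift (z := v.1 - 1) (by rw [map_sub, h1, map_one, sub_self])
    exact ⟨b, congrArg Additive.ofMul (Units.ext (show 1 + _ = v.1 by rw [← hb]; exact add_sub_cancel _ _))⟩
  choose l hl using hl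
  let π : UnitsSh.unitsAb Y ⟶ D.K :=
    ⟨{ app := fun V => AddCommGrpCat.ofHom (AddMonoidHom.mk' (l V) fun a b =>
        D.φ_injective V.unop ((hl V (a + b)).trans ((map_add (d.hom.app V).hom a b).trans
          ((congrArg₂ (· + ·) (hl V a).symm (hl V b).symm).trans (map_add (D.φ.hom.app V).hom (l V a) (l V b)).symm))))
       naturality := fun V V' g => by
        refine ConcreteCategory.hom_ext _ _ fun w => D.φ_injective V'.unop ((hl V' _).trans ?_)
        refine (ConcreteCategory.congr_hom (d.hom.naturality g) w).trans ?_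
        refine Eq.trans ?_ (ConcreteCategory.congr_hom (D.φ.hom.naturality g) (l V w)).symm
        exact congrArg ((UnitsSh.unitsAb Y).obj.map g) (hl V w).symm }⟩
  have hπ : π ≫ D.φ = d :=
    ObjectProperty.hom_ext _ (NatTrans.ext (funext fun V => ConcreteCategory.hom_ext _ _ fun w => hl V w))
  refine ⟨π, by rw [hπ, sub_add_cancel], ?_⟩
  refine ObjectProperty.hom_ext _ (NatTrans.ext (funext fun V => ConcreteCategory.hom_ext _ _ fun b =>
    D.φ_injective V.unop ?_))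
  show ((D.φ ≫ π) ≫ D.φ).hom.app V b = D.φ.hom.app V b
  rw [Category.assoc, hπ, Preadditive.comp_sub, Category.comp_id, ← Category.assoc, D.φ_comap, zero_comp, sub_zero]

/-- Functoriality of cohomology, in the universe used here. -/
abbrev hm {Z : TopCat.{u}} {F G : CohTop.Ab Z} (f : F ⟶ G) (q : ℕ) : CohTop.H F q →+ CohTop.H G q := Sheaf.H.map f q

theorem hm_hm {Z : TopCat.{u}} {F G L : CohTop.Ab Z} (f : F ⟶ G) (g : G ⟶ L) (q : ℕ) (x : CohTop.H F q) :
    hm g q (hm f q x) = hm (f ≫ g) q x := (Sheaf.H.map_comp_apply f g x).symm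

theorem hm_zero {Z : TopCat.{u}} {F G : CohTop.Ab Z} (q : ℕ) (x : CohTop.H F q) : hm (0 : F ⟶ G) q x = 0 := by
  rw [hm, Sheaf.H.map_apply, Ext.mk₀_zero, Ext.comp_zero]

/-- Cohomology takes split exact sequences to products. -/
theorem exists_prod {Z : TopCat.{u}} {F K L : CohTop.Ab Z} (π : F ⟶ K) (c : F ⟶ L) (φ : K ⟶ F) (σ : L ⟶ F)
    (h1 : π ≫ φ + c ≫ σ = 𝟙 _) (h2 : φ ≫ π = 𝟙 _) (h3 : φ ≫ c = 0) (h4 : σ ≫ c = 𝟙 _) (h5 : σ ≫ π = 0) (q : ℕ) :
    ∃ e : CohTop.H F q ≃+ (CohTop.H K q × CohTop.H L q), ∀ x, (e x).2 = hm c q x := by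
  refine ⟨{ toFun := fun x => (hm π q x, hm c q x)
            invFun := fun p => hm φ q p.1 + hm σ q p.2
            left_inv := fun x => ?_
            right_inv := fun p => ?_
            map_add' := fun x y => Prod.ext (map_add _ _ _) (map_add _ _ _) }, fun x => rfl⟩
  · show hm φ q (hm π q x) + hm σ q (hm c q x) = x
    rw [hm_hm, hm_hm, ← Sheaf.H.map_add_apply, h1, Sheaf.H.map_id_apply]
  · refine Prod.ext ?_ ?_
    · show hm π q (hm φ q p.1 + hm σ q p.2) = p.1
      rw [map_add, hm_hm, hm_hm, h2, h5, hm_zero, Sheaf.H.map_id_apply, add_zero]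
    · show hm c q (hm φ q p.1 + hm σ q p.2) = p.2
      rw [map_add, hm_hm, hm_hm, h3, h4, hm_zero, Sheaf.H.map_id_apply, zero_add]

/-- Cohomology of the units of the thickening splits. -/
theorem Dual.nonempty_prod (q : ℕ) :
    ∃ e : CohTop.H (UnitsSh.unitsAb Y) q ≃+
      (CohTop.H D.K q × CohTop.H ((CohTop.push D.i.base).obj (UnitsSh.unitsAb X)) q),
      ∀ x, (e x).2 = hm (UnitsSh.comap D.i) q x := by
  obtain ⟨π, h1, h2⟩ := D.exists_retraction
  have hσπ : D.σ ≫ π = 0 := by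
    have h := congrArg (fun t => D.σ ≫ t ≫ π) h1
    simp only [Preadditive.comp_add, Preadditive.add_comp, Category.assoc, h2, Category.comp_id] at h
    rw [reassoc_of% D.σ_comap, Category.id_comp] at h
    exact add_eq_left.1 h
  exact exists_prod π (UnitsSh.comap D.i) D.φ D.σ h1 h2 D.φ_comap D.σ_comap hσπ q

/-- Functions of the subscheme have the same cohomology on the thickening. -/
theorem Dual.nonempty_K (q : ℕ) : Nonempty (CohTop.H D.K q ≃+ Coh.HH X (Coh.structureModule X) q) := by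
  haveI := D.isClosedImmersion
  obtain ⟨e⟩ := CohTopLib.nonempty_H_push_equiv D.i.base D.i.isClosedEmbedding q (Coh.toAb (Coh.structureModule X))
  exact ⟨e.symm⟩

/-- The kernel of restriction on the cohomology of units. -/
theorem Dual.nonempty_ker (q : ℕ) :
    Nonempty ((hm (UnitsSh.comap D.i) q).ker ≃+ Coh.HH X (Coh.structureModule X) q) := by
  obtain ⟨e, he⟩ := D.nonempty_prod q
  obtain ⟨f⟩ := D.nonempty_K q
  refine ⟨AddEquiv.trans ?_ f⟩
  exact
    { toFun := fun x => (e x.1).1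
      invFun := fun p => ⟨e.symm (p, 0), by
        show hm (UnitsSh.comap D.i) q (e.symm (p, 0)) = 0
        rw [← he, e.apply_symm_apply]⟩
      left_inv := fun x => Subtype.ext (by
        show e.symm ((e x.1).1, 0) = x.1
        rw [← show (e x.1).2 = 0 from (he x.1).trans x.2]
        exact e.symm_apply_apply _)
      right_inv := fun p => by
        show (e (e.symm (p, 0))).1 = p
        rw [e.apply_symm_apply]
      map_add' := fun x y => congrArg Prod.fst (map_add e x.1 y.1) }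

end DualUnitsLib
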