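import Groth.Agent.DualUnitsLib.SqStep
import Groth.Agent.DualUnitsLib.Split
import Groth.Agent.DualUnitsLib.FlatFG
import Groth.Agent.AlgSpRegLib.ImageScheme
import Mathlib.RingTheory.Artinian.Ring

/-!
# Units of flat schemes over Artinian rings
-/

set_option autoImplicit false
set_option linter.style.haveILetI false
set_option backward.isDefEq.respectTransparency false
set_option backward.isDefEq.respectTransparency.types false
set_option maxHeartbeats 1000000

universe u

open CategoryTheory CategoryTheory.Limits AlgebraicGeometry TopologicalSpace Opposite CategoryTheory.Abelian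
open QCohLib (pf)

noncomputable section

namespace DualUnitsLib

section Good

variable {Y : TopCat.{u}}

/-- An epimorphism whose kernel has no cohomology in degree `q`. -/
def Good {F G : CohTop.Ab Y} (f : F ⟶ G) (q : ℕ) : Prop := Epi f ∧ Subsingleton (CohTop.H (kernel f) q)

theorem subsingleton_H_of_iso {F G : CohTop.Ab Y} (e : F ≅ G) (q : ℕ) (h : Subsingleton (CohTop.H F q)) :
    Subsingleton (CohTop.H G q) := by
  refine ⟨fun a b => ?_⟩
  have : ∀ x : CohTop.H G q, x = hm e.hom q (hm e.inv q x) := fun x => by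
    rw [hm_hm, e.inv_hom_id]; exact (Sheaf.H.map_id_apply x).symm
  rw [this a, this b, Subsingleton.elim (hm e.inv q a) (hm e.inv q b)]

theorem subsingleton_H_middle {S : ShortComplex (CohTop.Ab Y)} (hS : S.ShortExact) (q : ℕ)
    (h1 : Subsingleton (CohTop.H S.X₁ q)) (h3 : Subsingleton (CohTop.H S.X₃ q)) : Subsingleton (CohTop.H S.X₂ q) := by
  refine subsingleton_of_forall_eq 0 fun x => ?_
  obtain ⟨y, rfl⟩ := Ext.covariant_sequence_exact₂ _ hS x (Subsingleton.elim (α := CohTop.H S.X₃ q) _ _)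
  rw [Subsingleton.elim (α := CohTop.H S.X₁ q) y 0, Ext.zero_comp]

theorem good_of_isIso {F G : CohTop.Ab Y} (f : F ⟶ G) [IsIso f] (q : ℕ) : Good f q := by
  refine ⟨inferInstance, subsingleton_of_forall_eq 0 fun x => ?_⟩
  have h : x = hm (0 : kernel f ⟶ kernel f) q x := by
    rw [show (0 : kernel f ⟶ kernel f) = 𝟙 _ from (isZero_kernel_of_mono f).eq_of_src _ _]
    exact (Sheaf.H.map_id_apply x).symm
  rw [h, hm_zero]

theorem good_of_shortExact {S : ShortComplex (CohTop.Ab Y)} (hS : S.ShortExact) (q : ℕ)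
    (h : Subsingleton (CohTop.H S.X₁ q)) : Good S.g q :=
  ⟨hS.epi_g, subsingleton_H_of_iso (IsLimit.conePointUniqueUpToIso hS.fIsKernel (kernelIsKernel S.g)) q h⟩

theorem Good.comp {F G L : CohTop.Ab Y} {f : F ⟶ G} {g : G ⟶ L} {q : ℕ} (hf : Good f q) (hg : Good g q) :
    Good (f ≫ g) q := by
  haveI := hf.1; haveI := hg.1
  refine ⟨inferInstance, ?_⟩
  let a : kernel f ⟶ kernel (f ≫ g) := kernel.lift _ (kernel.ι f) (by rw [kernel.condition_assoc, zero_comp])
  let b : kernel (f ≫ g) ⟶ kernel g := kernel.lift _ (kernel.ι (f ≫ g) ≫ f) (by rw [Category.assoc, kernel.condition])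
  have hab : a ≫ b = 0 := by
    rw [← cancel_mono (kernel.ι g), Category.assoc, kernel.lift_ι, kernel.lift_ι_assoc, kernel.condition, zero_comp]
  haveI : Mono a := mono_of_mono_fac (kernel.lift_ι _ _ _)
  have hpb : IsPullback b (kernel.ι (f ≫ g)) (kernel.ι g) f :=
    IsPullback.of_isLimit' ⟨kernel.lift_ι _ _ _⟩ (PullbackCone.IsLimit.mk _
      (fun s => kernel.lift _ s.snd (by rw [← Category.assoc, ← s.condition, Category.assoc, kernel.condition, comp_zero]))
      (fun s => by rw [← cancel_mono (kernel.ι g), Category.assoc, kernel.lift_ι, kernel.lift_ι_assoc, s.condition])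
      (fun s => kernel.lift_ι _ _ _)
      (fun s m h1 h2 => by rw [← cancel_mono (kernel.ι (f ≫ g)), kernel.lift_ι]; exact h2))
  haveI : Epi b := Abelian.epi_fst_of_isLimit _ _ hpb.isLimit
  have hS : (ShortComplex.mk a b hab).ShortExact :=
    { exact := ShortComplex.exact_of_f_is_kernel _ (KernelFork.IsLimit.ofι' _ _ fun {W} k hk =>
        ⟨kernel.lift f (k ≫ kernel.ι (f ≫ g)) (by
          have hkb : (k ≫ b) ≫ kernel.ι g = 0 := by rw [show k ≫ b = 0 from hk, zero_comp]
          rw [Category.assoc, show b ≫ kernel.ι g = kernel.ι (f ≫ g) ≫ f from kernel.lift_ι g _ _] at hkb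
          rw [Category.assoc]; exact hkb),
         by
          rw [← cancel_mono (kernel.ι (f ≫ g))]
          show (kernel.lift f _ _ ≫ a) ≫ kernel.ι (f ≫ g) = k ≫ kernel.ι (f ≫ g)
          rw [Category.assoc, show a ≫ kernel.ι (f ≫ g) = kernel.ι f from kernel.lift_ι _ _ _]
          exact kernel.lift_ι f _ _⟩) }
  exact subsingleton_H_middle hS q hf.2 hg.2

end Good

theorem good_push {Z Y : Scheme.{u}} (i : Z ⟶ Y) [IsClosedImmersion i] {F G : CohTop.Ab Z.toTopCat} {f : F ⟶ G} {q : ℕ}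
    (h : Good f q) : Good ((CohTop.push i.base).map f) q := by
  haveI := h.1
  have hS : (ShortComplex.mk (kernel.ι f) f (kernel.condition f)).ShortExact :=
    { exact := ShortComplex.exact_of_f_is_kernel _ (kernelIsKernel f) }
  have hP := CohTopLib.pf_shortExact_of_isClosedEmbedding i.base i.isClosedEmbedding hS
  obtain ⟨e⟩ := CohTopLib.nonempty_H_push_equiv i.base i.isClosedEmbedding q (kernel f)
  haveI := h.2
  exact good_of_shortExact hP q (@Function.Injective.subsingleton _ _ _ e.symm.injective h.2)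

theorem comap_comp {Z W Y : Scheme.{u}} (v : Z ⟶ W) (j : W ⟶ Y) :
    UnitsSh.comap (v ≫ j) = UnitsSh.comap j ≫ (CohTop.push j.base).map (UnitsSh.comap v) := by
  refine ObjectProperty.hom_ext _ (NatTrans.ext (funext fun V => ConcreteCategory.hom_ext _ _ fun s => ?_))
  refine congrArg Additive.ofMul (Units.ext ?_)
  exact ConcreteCategory.congr_hom (Scheme.Hom.comp_app v j V.unop) _

theorem isIso_comap {Z Y : Scheme.{u}} (i : Z ⟶ Y) [IsIso i] : IsIso (UnitsSh.comap i) := by
  haveI : ∀ V, IsIso ((UnitsSh.comap i).hom.app V) := fun V =>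
    inferInstanceAs (IsIso (UnitsSh.unitsFunctor.map (i.app V.unop)))
  haveI : IsIso (UnitsSh.comap i).hom := NatIso.isIso_of_isIso_app _
  haveI : IsIso ((sheafToPresheaf _ _).map (UnitsSh.comap i)) := ‹IsIso (UnitsSh.comap i).hom›
  exact isIso_of_reflects_iso _ (sheafToPresheaf _ _)

theorem isPullback_lift {T W Z : Scheme.{u}} {B C D : Scheme.{u}} {g : T ⟶ B} {σ : C ⟶ B} {τ : D ⟶ C} {j : W ⟶ T}
    {gW : W ⟶ C} (hW : IsPullback j gW g σ) {i : Z ⟶ T} {c : Z ⟶ D} (h : IsPullback i c g (τ ≫ σ)) :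
    ∃ i' : Z ⟶ W, i' ≫ j = i ∧ IsPullback i' c gW τ := by
  let i' := hW.lift i (c ≫ τ) (by rw [Category.assoc]; exact h.w)
  refine ⟨i', hW.lift_fst _ _ _, IsPullback.of_right ?_ (hW.lift_snd _ _ _) hW⟩
  rw [hW.lift_fst]
  exact h

variable {A : Type u} [CommRing A] [IsLocalRing A]

/-- `Spec` of a quotient map. -/
abbrev qSpec {a b : Ideal A} (h : a ≤ b) : Spec (CommRingCat.of (A ⧸ b)) ⟶ Spec (CommRingCat.of (A ⧸ a)) :=
  Spec.map (CommRingCat.ofHom (Ideal.Quotient.factor h))

theorem qSpec_comp {a b c : Ideal A} (h : a ≤ b) (h' : b ≤ c) : qSpec h' ≫ qSpec h = qSpec (h.trans h') := by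
  rw [← Spec.map_comp, ← CommRingCat.ofHom_comp, Ideal.Quotient.factor_comp]

theorem exists_socle_aux {R : Type u} [CommRing R] (m a b : Ideal R) (hab : ¬ b ≤ a) (n : ℕ) (h : m ^ n * b ≤ a) :
    ∃ t ∈ b, t ∉ a ∧ m * Ideal.span {t} ≤ a := by
  induction n with
  | zero =>
    rw [pow_zero, Ideal.one_eq_top, Ideal.top_mul] at h
    exact absurd h hab
  | succ n ih =>
    by_cases hn : m ^ n * b ≤ a
    · exact ih hn
    · obtain ⟨t, ht, hta⟩ := SetLike.not_le_iff_exists.1 hn
      refine ⟨t, Ideal.mul_le.2 (fun r _ s hs => b.mul_mem_left r hs) ht, hta, Ideal.mul_le.2 fun r hr x hx => h ?_⟩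
      rw [pow_succ', mul_assoc]
      refine Ideal.mul_mem_mul hr ?_
      obtain ⟨c, rfl⟩ := Ideal.mem_span_singleton'.1 hx
      exact Ideal.mul_mem_left _ c ht

theorem exists_socle [IsArtinianRing A] {a b : Ideal A} (hab : ¬ b ≤ a) :
    ∃ t ∈ b, t ∉ a ∧ IsLocalRing.maximalIdeal A * Ideal.span {t} ≤ a := by
  obtain ⟨N, hN⟩ := IsArtinianRing.isNilpotent_jacobson_bot (R := A)
  rw [IsLocalRing.jacobson_eq_maximalIdeal _ bot_ne_top] at hN
  exact exists_socle_aux _ a b hab N (by rw [hN]; simp)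

theorem subsingleton_idealMod_step {a a' : Ideal A} (h : a ≤ a') (ha' : a' ≤ IsLocalRing.maximalIdeal A)
    (hm : IsLocalRing.maximalIdeal A * a' ≤ a) (hfg : a'.FG) {T W X₀ : Scheme.{u}} (g : T ⟶ Spec (CommRingCat.of (A ⧸ a))) [Flat g]
    {j : W ⟶ T} {gW : W ⟶ _} (hW : IsPullback j gW g (qSpec h))
    {π : X₀ ⟶ T} {f₀ : X₀ ⟶ Spec (CommRingCat.of (A ⧸ IsLocalRing.maximalIdeal A))}
    (H : IsPullback π f₀ g (qSpec (h.trans ha'))) (q : ℕ) (hvan : Subsingleton (Coh.HH X₀ (Coh.structureModule X₀) q)) :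
    IsClosedImmersion j ∧ j.ker * j.ker = ⊥ ∧ Subsingleton (Coh.HH T (ClSub.idealMod j.ker) q) := by
  let m := IsLocalRing.maximalIdeal A
  letI : Field (A ⧸ m) := Ideal.Quotient.field _
  haveI : IsClosedImmersion (qSpec h) := IsClosedImmersion.spec_of_surjective _ (Ideal.Quotient.factor_surjective h)
  haveI : IsClosedImmersion (qSpec (h.trans ha')) :=
    IsClosedImmersion.spec_of_surjective _ (Ideal.Quotient.factor_surjective (h.trans ha'))
  refine ⟨MorphismProperty.of_isPullback hW.flip inferInstance, ?_⟩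
  have hker : j.ker = (qSpec h).ker.comap g := by
    rw [← hW.isoPullback_hom_fst, Scheme.Hom.ker_comp_of_isIso, Scheme.IdealSheafData.ker_fst_of_isClosedImmersion]
  rw [hker]
  have hcoh : Coh.IsCoh (ClSub.idealMod (qSpec h).ker) := isCoh_idealMod_of_fg _ (fg_ker_specMap _ (by
    rw [Ideal.Quotient.factor_ker]
    exact hfg.map _))
  refine ⟨PicH1Lib.comap_mul_self_eq_bot _ _ (PicH1Lib.ker_mul_ker_eq_bot _ _ ?_),
    subsingleton_HH_idealMod_comap_of_isCoh g (qSpec h).ker hcoh (qSpec (h.trans ha'))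
      (PicH1Lib.ker_mul_ker_eq_bot _ _ ?_) H q hvan⟩
  · rw [Ideal.Quotient.factor_ker, ← Ideal.map_mul, Ideal.map_eq_bot_iff_le_ker, Ideal.mk_ker]
    exact le_trans (Ideal.mul_mono_left ha') hm
  · rw [Ideal.Quotient.factor_ker, Ideal.Quotient.factor_ker, ← Ideal.map_mul, Ideal.map_eq_bot_iff_le_ker, Ideal.mk_ker]
    exact hm

/-- The units of a flat scheme over an Artinian ring. -/
theorem good_comap [IsArtinianRing A] (a b : Ideal A) (hab : a ≤ b) (hb : b ≤ IsLocalRing.maximalIdeal A)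
    {T Z X₀ : Scheme.{u}} (g : T ⟶ Spec (CommRingCat.of (A ⧸ a))) [Flat g]
    {i : Z ⟶ T} {c : Z ⟶ _} (hi : IsPullback i c g (qSpec hab))
    {π : X₀ ⟶ T} {f₀ : X₀ ⟶ Spec (CommRingCat.of (A ⧸ IsLocalRing.maximalIdeal A))}
    (H : IsPullback π f₀ g (qSpec (hab.trans hb))) (q : ℕ) (hvan : Subsingleton (Coh.HH X₀ (Coh.structureModule X₀) q)) :
    Good (UnitsSh.comap i) q := by
  induction a using WellFoundedGT.induction generalizing T Z X₀ with
  | _ a ih =>
    by_cases hba : b ≤ a
    · obtain rfl := le_antisymm hab hba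
      haveI : IsIso (qSpec hab) := by
        rw [qSpec, show Ideal.Quotient.factor hab = RingHom.id _ from Ideal.Quotient.ringHom_ext (RingHom.ext fun _ => rfl),
          CommRingCat.ofHom_id, Spec.map_id]
        infer_instance
      haveI : IsIso i := hi.isIso_fst_of_isIso
      haveI := isIso_comap i
      exact good_of_isIso _ q
    obtain ⟨t, htb, hta, hmt⟩ := exists_socle hba
    let a' := a ⊔ Ideal.span {t}
    have h : a ≤ a' := le_sup_left
    have hlt : a < a' := lt_of_le_of_ne h fun e => hta (e.ge ((le_sup_right : Ideal.span {t} ≤ a') (Ideal.mem_span_singleton_self t)))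
    have ha'b : a' ≤ b := sup_le hab ((Ideal.span_singleton_le_iff_mem _).2 htb)
    have hm : IsLocalRing.maximalIdeal A * a' ≤ a := by
      rw [Ideal.mul_sup]; exact sup_le Ideal.mul_le_right hmt
    let j := pullback.fst g (qSpec h)
    let gW := pullback.snd g (qSpec h)
    have hW : IsPullback j gW g (qSpec h) := IsPullback.of_hasPullback _ _
    haveI : Flat gW := MorphismProperty.of_isPullback hW inferInstance
    obtain ⟨i', hi', hsq⟩ := isPullback_lift (τ := qSpec ha'b) hW (by rw [qSpec_comp]; exact hi)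
    obtain ⟨π', -, hsq'⟩ := isPullback_lift (τ := qSpec (ha'b.trans hb)) hW (by rw [qSpec_comp]; exact H)
    obtain ⟨hcl, hsqz, hv⟩ := subsingleton_idealMod_step h (ha'b.trans hb) hm (IsNoetherian.noetherian a') g hW H q hvan
    haveI := hcl
    rw [← hi', comap_comp]
    exact (good_of_shortExact (unitsSeq_shortExact j hsqz) q hv).comp (good_push j (ih a' hlt ha'b gW hsq hsq' hvan))

/-- `Spec A` as `Spec (A ⧸ ⊥)`. -/
theorem exists_isPullback_bot {X' : Scheme.{u}} (g : X' ⟶ Spec (CommRingCat.of A)) [Flat g] :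
    ∃ g' : X' ⟶ Spec (CommRingCat.of (A ⧸ (⊥ : Ideal A))), Flat g' ∧ ∀ b : Ideal A,
      IsPullback (pullback.fst g (Spec.map (CommRingCat.ofHom (Ideal.Quotient.mk b)))) (pullback.snd _ _)
        g' (qSpec (bot_le : (⊥ : Ideal A) ≤ b)) := by
  let p : Spec (CommRingCat.of (A ⧸ (⊥ : Ideal A))) ⟶ Spec (CommRingCat.of A) :=
    Spec.map (CommRingCat.ofHom (Ideal.Quotient.mk (⊥ : Ideal A)))
  haveI : IsIso (CommRingCat.ofHom (Ideal.Quotient.mk (⊥ : Ideal A))) :=
    (RingEquiv.quotientBot A).symm.toCommRingCatIso.isIso_hom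
  haveI : IsIso p := inferInstance
  have key : ∀ b : Ideal A, qSpec (bot_le : (⊥ : Ideal A) ≤ b) ≫ p = Spec.map (CommRingCat.ofHom (Ideal.Quotient.mk b)) :=
    fun b => by rw [← Spec.map_comp, ← CommRingCat.ofHom_comp, Ideal.Quotient.factor_comp_mk]
  exact ⟨g ≫ inv p, inferInstance, fun b =>
    (IsPullback.of_hasPullback g (Spec.map (CommRingCat.ofHom (Ideal.Quotient.mk b)))).of_iso
      (Iso.refl _) (Iso.refl _) (Iso.refl _) (asIso p).symm (by simp) (by simp) (by simp) (by simp [← key])⟩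

/-- `good_comap` for a scheme over `Spec A`. -/
theorem good_comap_fst [IsArtinianRing A] {J : Ideal A} (hJ : J ≤ IsLocalRing.maximalIdeal A)
    {X' : Scheme.{u}} (g : X' ⟶ Spec (CommRingCat.of A)) [Flat g] (q : ℕ)
    (hvan : Subsingleton (Coh.HH (pullback g (Spec.map (CommRingCat.ofHom (Ideal.Quotient.mk (IsLocalRing.maximalIdeal A)))))
      (Coh.structureModule _) q)) :
    Good (UnitsSh.comap (pullback.fst g (Spec.map (CommRingCat.ofHom (Ideal.Quotient.mk J))))) q := by
  obtain ⟨g', hg, hpb⟩ := exists_isPullback_bot g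
  exact good_comap ⊥ J bot_le hJ g' (hpb J) (hpb _) q hvan

/-- One step over any local ring. -/
theorem good_comap_fst_step {J : Ideal A} (hJ : J ≤ IsLocalRing.maximalIdeal A)
    (hm : IsLocalRing.maximalIdeal A * J ≤ ⊥) (hfg : J.FG)
    {X' : Scheme.{u}} (g : X' ⟶ Spec (CommRingCat.of A)) [Flat g] (q : ℕ)
    (hvan : Subsingleton (Coh.HH (pullback g (Spec.map (CommRingCat.ofHom (Ideal.Quotient.mk (IsLocalRing.maximalIdeal A)))))
      (Coh.structureModule _) q)) :
    Good (UnitsSh.comap (pullback.fst g (Spec.map (CommRingCat.ofHom (Ideal.Quotient.mk J))))) q := by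
  obtain ⟨g', hg, hpb⟩ := exists_isPullback_bot g
  obtain ⟨hcl, hsqz, hv⟩ := subsingleton_idealMod_step bot_le hJ hm hfg g' (hpb J) (hpb _) q hvan
  haveI := hcl
  exact good_of_shortExact (unitsSeq_shortExact _ hsqz) q hv

/-- An epimorphism whose kernel has no cohomology in degree `q + 1` is surjective in degree `q`. -/
theorem Good.surjective {Y : TopCat.{u}} {F G : CohTop.Ab Y} {f : F ⟶ G} {q : ℕ} (h : Good f (q + 1)) :
    Function.Surjective (Sheaf.H.map f q) := by
  haveI := h.1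
  have hS : (ShortComplex.mk (kernel.ι f) f (kernel.condition f)).ShortExact :=
    { exact := ShortComplex.exact_of_f_is_kernel _ (kernelIsKernel f) }
  intro x
  obtain ⟨y, hy⟩ := Ext.covariant_sequence_exact₃ _ hS x rfl (Subsingleton.elim (h := h.2) _ _)
  exact ⟨y, hy⟩

end DualUnitsLib
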