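import Groth.Agent.PicH1Lib.NestedSeq
import Groth.Agent.CohTopLib.Basic
import Groth.Prelude.Def_UnitsSh

/-!
# Units along a closed immersion with square zero ideal
-/

set_option autoImplicit false
set_option linter.style.haveILetI false
set_option backward.isDefEq.respectTransparency false
set_option backward.isDefEq.respectTransparency.types false
set_option maxHeartbeats 1000000

universe u

open CategoryTheory CategoryTheory.Limits AlgebraicGeometry TopologicalSpace Opposite CategoryTheory.Abelian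
open QCohLib (toAbF)

noncomputable section

namespace DualUnitsLib

variable {Z Y : Scheme.{u}} (i : Z ⟶ Y) [IsClosedImmersion i] (hI : i.ker * i.ker = ⊥)

/-- `f ↦ 1 + f` from the ideal to the units. -/
def onePlusHom : Coh.toAb (ClSub.idealMod i.ker) ⟶ UnitsSh.unitsAb Y :=
  ⟨{ app := fun V => AddCommGrpCat.ofHom (AddMonoidHom.mk'
        (fun s => UnitsSh.sectOfUnit (O := Y.sheaf.obj) (U := V) (PicH1Lib.onePlus hI (V := V.unop) s))
        fun s t => (congrArg UnitsSh.sectOfUnit (PicH1Lib.onePlus_add hI (V := V.unop) s t)).trans rfl)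
     naturality := fun V W g => (PicH1Lib.eps hI).hom.naturality g }⟩

theorem onePlusHom_injective (V : Y.Opens) : Function.Injective ((onePlusHom i hI).hom.app (op V)) :=
  PicH1Lib.eps_injective hI V

theorem onePlusHom_comap : onePlusHom i hI ≫ UnitsSh.comap i = 0 := by
  refine ObjectProperty.hom_ext _ (NatTrans.ext (funext fun V => ConcreteCategory.hom_ext _ _ fun s => ?_))
  refine congrArg Additive.ofMul (Units.ext ?_)
  show i.app V.unop (1 + PicH1Lib.idVal i.ker (V := V.unop) s) = 1
  rw [map_add, map_one, (PicH1Lib.app_eq_zero_iff i _).mpr (PicH1Lib.app_idVal i.ker s)]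
  exact add_zero _

theorem exists_onePlusHom (V : Y.Opens) (a : (UnitsSh.unitsAb Y).obj.obj (op V))
    (h : (UnitsSh.comap i).hom.app (op V) a = 0) : ∃ s, (onePlusHom i hI).hom.app (op V) s = a := by
  let v : (Γ(Y, V))ˣ := UnitsSh.unitOfSect (O := Y.sheaf.obj) (U := op V) a
  have h1 : i.app V (v.1 : Γ(Y, V)) = 1 :=
    congrArg (fun w => (UnitsSh.unitOfSect (O := Z.sheaf.obj) (U := op (i ⁻¹ᵁ V)) w).1) h
  obtain ⟨s, hs⟩ := PicH1Lib.exists_idVal i.ker (b := v.1 - 1)
    ((PicH1Lib.app_eq_zero_iff i _).mp (by rw [map_sub, h1, map_one, sub_self]))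
  exact ⟨s, congrArg Additive.ofMul (Units.ext ((congrArg (1 + ·) hs).trans (add_sub_cancel _ _)))⟩

include hI in
theorem isUnit_of_app {V : Y.Opens} {r : Γ(Y, V)} (h : i.app V r = 1) : IsUnit r := by
  have h0 : i.ker.subschemeι.app V (r - 1) = 0 :=
    (PicH1Lib.app_eq_zero_iff i _).mp (by rw [map_sub, h, map_one, sub_self])
  have h2 := PicH1Lib.mul_eq_zero_of_sq_zero hI h0 h0
  exact IsUnit.of_mul_eq_one (2 - r) (by linear_combination -h2)

/-- The sequence of a square zero immersion. -/
abbrev unitsSeq : ShortComplex (CohTop.Ab Y.toTopCat) :=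
  ShortComplex.mk (onePlusHom i hI) (UnitsSh.comap i) (onePlusHom_comap i hI)

theorem unitsSeq_shortExact : (unitsSeq i hI).ShortExact := by
  have hm : Mono (onePlusHom i hI) := by
    have : ∀ V, Mono ((onePlusHom i hI).hom.app V) := fun V =>
      (AddCommGrpCat.mono_iff_injective _).mpr (onePlusHom_injective i hI V.unop)
    have : Mono ((sheafToPresheaf _ _).map (onePlusHom i hI)) := NatTrans.mono_of_mono_app (onePlusHom i hI).hom
    exact (sheafToPresheaf _ _).mono_of_mono_map this
  refine { exact := ?_, mono_f := hm, epi_g := ?_ }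
  · refine ShortComplex.exact_of_f_is_kernel _ (KernelFork.IsLimit.ofι' _ _ fun {W} g hg => ?_)
    choose l hl using fun (V : (Opens Y.toTopCat)ᵒᵖ) (w : W.obj.obj V) => exists_onePlusHom i hI V.unop (g.hom.app V w)
      (ConcreteCategory.congr_hom (congrArg (fun t => t.hom.app V) hg) w)
    refine ⟨⟨{ app := fun V => AddCommGrpCat.ofHom (AddMonoidHom.mk' (l V) fun a b =>
        onePlusHom_injective i hI V.unop ((hl V (a + b)).trans ((map_add (g.hom.app V).hom a b).trans
          ((congrArg₂ (· + ·) (hl V a).symm (hl V b).symm).trans (map_add ((onePlusHom i hI).hom.app V).hom (l V a) (l V b)).symm))))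
               naturality := fun V V' φ => ?_ }⟩, ?_⟩
    · refine ConcreteCategory.hom_ext _ _ fun w => onePlusHom_injective i hI V'.unop ((hl V' _).trans ?_)
      refine (ConcreteCategory.congr_hom (g.hom.naturality φ) w).trans ?_
      refine Eq.trans ?_ (ConcreteCategory.congr_hom ((onePlusHom i hI).hom.naturality φ) (l V w)).symm
      exact congrArg ((UnitsSh.unitsAb Y).obj.map φ) (hl V w).symm
    · refine ObjectProperty.hom_ext _ (NatTrans.ext (funext fun V => ConcreteCategory.hom_ext _ _ fun w => ?_))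
      exact hl V w
  · refine (Sheaf.isLocallySurjective_iff_epi' (φ := UnitsSh.comap i)).mp
      ((TopCat.Presheaf.isLocallySurjective_iff _).mpr ?_)
    intro V s y hy
    obtain ⟨U, hU, hyU, hUV⟩ := exists_isAffineOpen_mem_and_subset hy
    let v : (Γ(Z, i ⁻¹ᵁ U))ˣ := UnitsSh.unitOfSect (O := Z.sheaf.obj) (U := op (i ⁻¹ᵁ U))
      ((((CohTop.push i.base).obj (UnitsSh.unitsAb Z)).obj.map (homOfLE hUV).op) s)
    obtain ⟨r, hr⟩ := i.app_surjective U hU v.1
    obtain ⟨r', hr'⟩ := i.app_surjective U hU (↑v⁻¹ : Γ(Z, i ⁻¹ᵁ U))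
    have hru : IsUnit r := isUnit_of_mul_isUnit_left (isUnit_of_app i hI (r := r * r') (by rw [map_mul, hr, hr', Units.mul_inv]))
    refine ⟨U, hUV, ⟨UnitsSh.sectOfUnit (O := Y.sheaf.obj) (U := op U) hru.unit, ?_⟩, hyU⟩
    exact congrArg Additive.ofMul (Units.ext hr)

/-- The sequence of a square zero ideal. -/
theorem exists_onePlus_shortExact (J : Y.IdealSheafData) (hJ : J * J = ⊥) {W : Scheme.{u}} (j : W ⟶ Y) [IsClosedImmersion j]
    (hj : j.ker = J) :
    ∃ φ : Coh.toAb (ClSub.idealMod J) ⟶ UnitsSh.unitsAb Y,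
      (∀ (U : Y.Opens) (f : (ClSub.idealMod J).val.obj (op U)),
        (UnitsSh.unitOfSect (φ.hom.app (op U) f)).val =
          1 + (show Y.sheaf.obj.obj (op U) from (ClSub.idealModι J).val.app (op U) f)) ∧
      ∃ w : φ ≫ UnitsSh.comap j = 0, (ShortComplex.mk φ (UnitsSh.comap j) w).ShortExact := by
  subst hj
  exact ⟨onePlusHom j hJ, fun U f => rfl, _, unitsSeq_shortExact j hJ⟩

end DualUnitsLib
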